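import Groth.Agent.SchTorsor.Basic
import Groth.Prelude.Def_ChGrp
import Mathlib.AlgebraicGeometry.Sites.Proetale
import Mathlib.AlgebraicGeometry.Sites.Etale
import Mathlib.AlgebraicGeometry.PullbackCarrier

/-!
# Reductions of the structure group from sections of a quotient
-/

set_option autoImplicit false
set_option linter.style.haveILetI false
set_option linter.unusedSectionVars false
set_option backward.isDefEq.respectTransparency false
set_option backward.isDefEq.respectTransparency.types false
set_option maxHeartbeats 1000000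

universe u

open CategoryTheory Limits AlgebraicGeometry
open MonoidalCategory CartesianMonoidalCategory MonObj GrpObj

noncomputable section

namespace Groth.Agent.TorsorRed

variable {S : Scheme.{u}} {G F Q : Over S} [GrpObj G] (b : AlgGrp.Action G F) {π : F ⟶ Q}
  (hsq : IsPullback b.act (snd G F) π π) (σ : 𝟙_ (Over S) ⟶ Q)

theorem fpqc_of_etale {X : Over S} {a : AlgGrp.Action G X}
    (ha : NonAbH1.IsTorsorFor Scheme.etalePrecoverage a) : NonAbH1.IsTorsorFor Scheme.fpqcPrecoverage a :=
  ⟨ha.1, ha.2.choose, (Scheme.etalePrecoverage_le_proetalePrecoverage.trans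
    Scheme.proetalePrecoverage_le_fpqcPrecoverage) _ ha.2.choose_spec.1, ha.2.choose_spec.2⟩

/-- The pullback of the quotient map along a section. -/
def red (π : F ⟶ Q) (σ : 𝟙_ (Over S) ⟶ Q) : Over S := pullback π σ

/-- Its map to the torsor. -/
def incl (π : F ⟶ Q) (σ : 𝟙_ (Over S) ⟶ Q) : red π σ ⟶ F := pullback.fst π σ

theorem isPullback_red (π : F ⟶ Q) (σ : 𝟙_ (Over S) ⟶ Q) :
    IsPullback (incl π σ) (toUnit (red π σ)) π σ := by
  have h := IsPullback.of_hasPullback π σ
  rwa [toUnit_unique (pullback.snd π σ) (toUnit _)] at h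

theorem incl_ext {T : Over S} {x y : T ⟶ red π σ} (h : x ≫ incl π σ = y ≫ incl π σ) : x = y :=
  (isPullback_red π σ).hom_ext h (toUnit_unique _ _)

include hsq in
theorem act_w : ((G ◁ incl π σ) ≫ b.act) ≫ π = toUnit (G ⊗ red π σ) ≫ σ := by
  rw [Category.assoc, hsq.w, whiskerLeft_snd_assoc, (isPullback_red π σ).w, ← Category.assoc]
  exact congrArg (· ≫ σ) (toUnit_unique _ _)

/-- The action on the reduction. -/
def redActMap : G ⊗ red π σ ⟶ red π σ :=
  (isPullback_red π σ).lift ((G ◁ incl π σ) ≫ b.act) (toUnit _) (act_w b hsq σ)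

theorem redActMap_incl : redActMap b hsq σ ≫ incl π σ = (G ◁ incl π σ) ≫ b.act :=
  (isPullback_red π σ).lift_fst _ _ _

theorem lift_redActMap {T : Over S} (g : T ⟶ G) (x : T ⟶ red π σ) :
    (lift g x ≫ redActMap b hsq σ) ≫ incl π σ = lift g (x ≫ incl π σ) ≫ b.act := by
  rw [Category.assoc, redActMap_incl, lift_whiskerLeft_assoc]

/-- The reduction with its action. -/
def redAct : AlgGrp.Action G (red π σ) where
  act := redActMap b hsq σ
  one_act := by
    refine incl_ext σ ?_
    rw [Category.assoc, redActMap_incl, ← whisker_exchange_assoc, b.one_act, leftUnitor_naturality]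
  mul_act := by
    refine incl_ext σ ?_
    rw [Category.assoc, redActMap_incl, ← whisker_exchange_assoc, b.mul_act]
    simp only [Category.assoc, redActMap_incl]
    rw [associator_naturality_right_assoc, ← MonoidalCategory.whiskerLeft_comp_assoc,
      ← MonoidalCategory.whiskerLeft_comp_assoc, redActMap_incl]

theorem isPseudoTorsor_red : NonAbH1.IsPseudoTorsorSch (redAct b hsq σ) := by
  have w : (fst (red π σ) (red π σ) ≫ incl π σ) ≫ π = (snd (red π σ) (red π σ) ≫ incl π σ) ≫ π := by
    simp only [Category.assoc, (isPullback_red π σ).w]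
    rw [← Category.assoc, ← Category.assoc]
    exact congrArg (· ≫ σ) (toUnit_unique _ _)
  let r := hsq.lift _ _ w
  refine ⟨lift (r ≫ fst G F) (snd _ _), ?_, ?_⟩
  · refine CartesianMonoidalCategory.hom_ext _ _ ?_ (by simp)
    rw [Category.assoc, lift_fst, Category.id_comp]
    have h : lift (redActMap b hsq σ) (snd G (red π σ)) ≫ r = G ◁ incl π σ := by
      refine hsq.hom_ext ?_ ?_
      · rw [Category.assoc, hsq.lift_fst, lift_fst_assoc, redActMap_incl]
      · rw [Category.assoc, hsq.lift_snd, lift_snd_assoc, whiskerLeft_snd]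
    exact (Category.assoc _ _ _).symm.trans ((congrArg (· ≫ fst G F) h).trans (whiskerLeft_fst _ _))
  · refine CartesianMonoidalCategory.hom_ext _ _ ?_ (by simp)
    rw [Category.id_comp, Category.assoc, lift_fst]
    refine incl_ext σ ?_
    refine (lift_redActMap b hsq σ _ _).trans ?_
    have h : lift (r ≫ fst G F) (snd (red π σ) (red π σ) ≫ incl π σ) = r := by
      refine CartesianMonoidalCategory.hom_ext _ _ (by simp) ?_
      rw [lift_snd]
      exact (hsq.lift_snd _ _ w).symm
    rw [h]
    exact hsq.lift_fst _ _ w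

include hsq in
/-- An equivariant map from a torsor gives a cartesian square with its section. -/
theorem isPullback_of_equivariant {E : Over S} (aE : AlgGrp.Action G E)
    (hE : NonAbH1.IsTorsorFor Scheme.fpqcPrecoverage aE) (φ : E ⟶ F) (hφ : aE.act ≫ φ = (G ◁ φ) ≫ b.act)
    (hσ : toUnit E ≫ σ = φ ≫ π) : IsPullback φ (toUnit E) π σ := by
  let l : E ⟶ red π σ := (isPullback_red π σ).lift φ (toUnit E) hσ.symm
  have hl : l ≫ incl π σ = φ := (isPullback_red π σ).lift_fst _ _ _
  haveI : IsIso l := SchTorsor.isIso_of_equivariant hE (isPseudoTorsor_red b hsq σ) l (by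
    refine incl_ext σ ?_
    rw [Category.assoc, hl, hφ]
    show _ = ((G ◁ l) ≫ redActMap b hsq σ) ≫ incl π σ
    rw [Category.assoc, redActMap_incl, ← MonoidalCategory.whiskerLeft_comp_assoc, hl])
  exact (isPullback_red π σ).of_iso (asIso l).symm (Iso.refl _) (Iso.refl _) (Iso.refl _)
    (by simp [← hl]) (toUnit_unique _ _) (by simp) (by simp)

theorem existsUnique_section {E : Over S} (aE : AlgGrp.Action G E)
    (hE : NonAbH1.IsTorsorFor Scheme.fpqcPrecoverage aE) (φ : E ⟶ F) (hφ : aE.act ≫ φ = (G ◁ φ) ≫ b.act)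
    (hw : b.act ≫ π = snd G F ≫ π) :
    ∃! τ : 𝟙_ (Over S) ⟶ Q, toUnit E ≫ τ = φ ≫ π :=
  SchTorsor.existsUnique_desc hE (φ ≫ π) (by rw [reassoc_of% hφ, hw, whiskerLeft_snd_assoc])

/-- Local sections of the quotient map give local sections of the reduction. -/
theorem isLocallyTrivial_red (h : NonAbH1.IsLocallyTrivialFor Scheme.etalePrecoverage (Over.mk π.left : Over Q.left)) :
    NonAbH1.IsLocallyTrivialFor Scheme.etalePrecoverage (red π σ) := by
  obtain ⟨R, hR, hsec⟩ := h
  obtain ⟨J, U, v, rfl⟩ := R.exists_eq_ofArrows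
  obtain ⟨hcov, het⟩ := (Scheme.ofArrows_mem_precoverage_iff (P := @Etale)).1 hR
  let s₀ : S ⟶ Q.left := σ.left
  refine ⟨Presieve.ofArrows (fun j => pullback (v j) s₀) (fun j => pullback.snd (v j) s₀),
    (Scheme.ofArrows_mem_precoverage_iff (P := @Etale)).2 ⟨fun x => ?_, fun j => ?_⟩, ?_⟩
  · obtain ⟨j, y, hy⟩ := hcov (s₀ x)
    obtain ⟨z, -, hz⟩ := Scheme.Pullback.exists_preimage_pullback y x hy
    exact ⟨j, z, hz⟩
  · haveI := het j
    infer_instance
  · rintro S' g ⟨j⟩
    obtain ⟨s, hs⟩ := hsec (v j) (.mk j)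
    have hσ' : s₀ ≫ Q.hom = 𝟙 S := Over.w σ
    let T : Over S := Over.mk (pullback.snd (v j) s₀)
    let xF : T ⟶ F := Over.homMk (pullback.fst (v j) s₀ ≫ s) (by
      rw [← Over.w π]
      show (pullback.fst (v j) s₀ ≫ s) ≫ π.left ≫ Q.hom = _
      have hs' : s ≫ π.left = v j := hs
      rw [Category.assoc, reassoc_of% hs', pullback.condition_assoc, hσ']
      exact Category.comp_id _)
    have hx : xF ≫ π = toUnit T ≫ σ := Over.OverMorphism.ext (by
      show (pullback.fst (v j) s₀ ≫ s) ≫ π.left = pullback.snd (v j) s₀ ≫ s₀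
      rw [Category.assoc, show s ≫ π.left = v j from hs, pullback.condition])
    exact ⟨((isPullback_red π σ).lift xF (toUnit T) hx).left, Over.w _⟩

end Groth.Agent.TorsorRed
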